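import Groth.Agent.FlatLocus.FibreStalk
import Groth.Agent.PullbackMod.Props
import Groth.Agent.PullbackMod.FibreLocus
import Groth.Agent.PullbackMod.Flat
import Groth.Prelude.Def_FlatMod2

/-!
# Faithful flatness of modules relative to a base
-/

set_option autoImplicit false
set_option backward.isDefEq.respectTransparency false
set_option linter.style.haveILetI false

universe u

open CategoryTheory CategoryTheory.Limits AlgebraicGeometry TensorProduct IsLocalRing

namespace Groth.Agent.FFRelLib

/-- `M_x ⊗ κ(s) ≠ 0` in terms of the stalk of the pullback to the fibre. -/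
theorem ne_top_iff_nontrivial {X S : Scheme.{u}} (f : X ⟶ S) (M : X.Modules) [Coh.IsQCoh M] (s : S) (z : f.fiber s) :
    (letI := FlatMod.moduleStalkOver f M (f.fiberι s z);
      maximalIdeal (S.presheaf.stalk (f (f.fiberι s z))) •
        (⊤ : Submodule (S.presheaf.stalk (f (f.fiberι s z))) (M.presheaf.stalk (f.fiberι s z))) ≠ ⊤) ↔
      Nontrivial (((Scheme.Modules.pullback (f.fiberι s)).obj M).presheaf.stalk z) := by
  letI := ((f.fiberι s).stalkMap z).hom.toAlgebra
  letI := (f.stalkMap (f.fiberι s z)).hom.toAlgebra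
  letI := FlatMod.moduleStalkOver f M (f.fiberι s z)
  haveI : IsScalarTower (S.presheaf.stalk (f (f.fiberι s z))) (X.presheaf.stalk (f.fiberι s z))
      (M.presheaf.stalk (f.fiberι s z)) := .of_algebraMap_smul fun _ _ => rfl
  obtain ⟨φ, -⟩ := PullbackMod.exists_pullback_stalk_equiv (f.fiberι s) M z
  let q := Ideal.quotientKerAlgEquivOfSurjective
    (f := Algebra.ofId (X.presheaf.stalk (f.fiberι s z)) ((f.fiber s).presheaf.stalk z))
    (FlatLocus.fiberι_stalkMap_surjective f s z)
  let K := RingHom.ker (Algebra.ofId (X.presheaf.stalk (f.fiberι s z)) ((f.fiber s).presheaf.stalk z))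
  let e := (TensorProduct.congr q.symm.toLinearEquiv (LinearEquiv.refl _ (M.presheaf.stalk (f.fiberι s z)))).trans
    (TensorProduct.quotTensorEquivQuotSMul (M.presheaf.stalk (f.fiberι s z)) K)
  rw [← φ.toEquiv.nontrivial_congr, e.toEquiv.nontrivial_congr, Submodule.Quotient.nontrivial_iff,
    show K = (maximalIdeal (S.presheaf.stalk (f (f.fiberι s z)))).map
      (algebraMap (S.presheaf.stalk (f (f.fiberι s z))) (X.presheaf.stalk (f.fiberι s z))) from
      FlatLocus.ker_fiberι_stalkMap f s z]
  refine not_congr ?_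
  rw [← Submodule.restrictScalars_eq_top_iff (R := X.presheaf.stalk (f.fiberι s z)) (S := S.presheaf.stalk (f (f.fiberι s z)))
    (p := Ideal.map _ _ • (⊤ : Submodule (X.presheaf.stalk (f.fiberι s z)) (M.presheaf.stalk (f.fiberι s z)))),
    Ideal.smul_restrictScalars, Submodule.restrictScalars_top]

/-- Pullback along a map with flat stalk map does not kill non-zero stalks. -/
theorem nontrivial_pullback {X' X : Scheme.{u}} (g : X' ⟶ X) (M : X.Modules) [Coh.IsQCoh M] (x' : X')
    (hg : (g.stalkMap x').hom.Flat) (h : Nontrivial (M.presheaf.stalk (g x'))) :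
    Nontrivial (((Scheme.Modules.pullback g).obj M).presheaf.stalk x') := by
  letI := (g.stalkMap x').hom.toAlgebra
  haveI : Module.Flat (X.presheaf.stalk (g x')) (X'.presheaf.stalk x') := hg
  haveI : IsLocalHom (algebraMap (X.presheaf.stalk (g x')) (X'.presheaf.stalk x')) :=
    inferInstanceAs (IsLocalHom (g.stalkMap x').hom)
  haveI := Module.FaithfullyFlat.of_flat_of_isLocalHom (A := X.presheaf.stalk (g x')) (B := X'.presheaf.stalk x')
  obtain ⟨φ, -⟩ := PullbackMod.exists_pullback_stalk_equiv g M x'
  rw [← φ.toEquiv.nontrivial_congr]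
  exact Module.FaithfullyFlat.lTensor_nontrivial (X.presheaf.stalk (g x')) (X'.presheaf.stalk x') (M.presheaf.stalk (g x'))

/-- Isomorphic modules have equivalent stalks. -/
theorem nontrivial_of_iso {X : Scheme.{u}} {M N : X.Modules} (e : M ≅ N) (x : X)
    (h : Nontrivial (M.presheaf.stalk x)) : Nontrivial (N.presheaf.stalk x) := by
  let eS : M.presheaf.stalk x ≅ N.presheaf.stalk x :=
    (TopCat.Presheaf.stalkFunctor Ab x).mapIso ((Scheme.Modules.toPresheaf X).mapIso e)
  exact eS.addCommGroupIsoToAddEquiv.toEquiv.nontrivial_congr.1 h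

/-- Base change keeps a module faithfully flat relative to the base. -/
theorem exists_ne_top_baseChange {X Y Y' : Scheme.{u}} (f : X ⟶ Y) (g : Y' ⟶ Y) (F : X.Modules) [Coh.IsQCoh F]
    (y' : Y') (x : X) (hx : f x = g y')
    (h : letI := FlatMod.moduleStalkOver f F x
      maximalIdeal (Y.presheaf.stalk (f x)) • (⊤ : Submodule (Y.presheaf.stalk (f x)) (F.presheaf.stalk x)) ≠ ⊤) :
    ∃ x' : ↥(pullback f g), pullback.snd f g x' = y' ∧ pullback.fst f g x' = x ∧
      (letI := FlatMod.moduleStalkOver (pullback.snd f g) ((Scheme.Modules.pullback (pullback.fst f g)).obj F) x'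
      maximalIdeal (Y'.presheaf.stalk (pullback.snd f g x')) •
        (⊤ : Submodule (Y'.presheaf.stalk (pullback.snd f g x'))
          (((Scheme.Modules.pullback (pullback.fst f g)).obj F).presheaf.stalk x')) ≠ ⊤) := by
  obtain ⟨z, rfl⟩ : x ∈ Set.range (f.fiberι (g y')) := by
    rw [f.range_fiberι]
    exact hx
  rw [ne_top_iff_nontrivial] at h
  have sq := isPullback_fiberToSpecResidueField_of_isPullback (IsPullback.of_hasPullback f g) y'
  set m := _
  have sq' : IsPullback m _ _ _ := sq
  haveI : Flat m := MorphismProperty.of_isPullback sq'.flip (inferInstance : Flat (Spec.map (g.residueFieldMap y')))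
  haveI : Surjective (Spec.map (g.residueFieldMap y')) := ⟨fun p => ⟨IsLocalRing.closedPoint _, Subsingleton.elim _ _⟩⟩
  haveI : Surjective m := MorphismProperty.of_isPullback sq'.flip inferInstance
  obtain ⟨z', rfl⟩ := m.surjective z
  have hm : m ≫ f.fiberι (g y') = (pullback.snd f g).fiberι y' ≫ pullback.fst f g := pullback.lift_fst _ _ _
  refine ⟨(pullback.snd f g).fiberι y' z', ?_, ?_, ?_⟩
  · have : (pullback.snd f g).fiberι y' z' ∈ pullback.snd f g ⁻¹' {y'} := by
      rw [← (pullback.snd f g).range_fiberι y']; exact ⟨z', rfl⟩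
    exact this
  · rw [← Scheme.Hom.comp_apply, ← hm]
    rfl
  · haveI := PullbackMod.isQCoh_pullback (pullback.fst f g) F
    rw [ne_top_iff_nontrivial]
    haveI := PullbackMod.isQCoh_pullback (f.fiberι (g y')) F
    exact nontrivial_of_iso ((Scheme.Modules.pullbackComp m (f.fiberι (g y')) ≪≫ Scheme.Modules.pullbackCongr hm ≪≫
      (Scheme.Modules.pullbackComp _ _).symm).app F) z' (nontrivial_pullback m _ z' (Flat.stalkMap m z') h)

end Groth.Agent.FFRelLib
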